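import Cfsg.Agent.Lib.KnownB.PSpFourSquare.Blocks

/-!
# Adjusting the upper left block

Conjugation by `[[1,T],[0,1]]` changes the block `P` into `P + T R`. With the symplectic relation
`Pᵀ R = Rᵀ P` and injectivity of the first two columns, `P + T R` can be moved into every conjugation
invariant property that contains a few determinant/trace patterns.
-/

set_option autoImplicit false

namespace CfsgLib.KnownB.PSpFourSquare

open Matrix

variable {F : Type*} [Field F]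

theorem sym_two (a b c : F) : (!![a, b; b, c] : Matrix (Fin 2) (Fin 2) F)ᵀ = !![a, b; b, c] := by
  ext i j; fin_cases i <;> fin_cases j <;> rfl

/-- What a property of `2 × 2` matrices must contain to be reachable from every block. -/
structure Reach (G : Matrix (Fin 2) (Fin 2) F → Prop) : Prop where
  conj : ∀ X P : Matrix (Fin 2) (Fin 2) F, P.det ≠ 0 → G X → G (P * X * P⁻¹)
  invertible : ∀ R : Matrix (Fin 2) (Fin 2) F, R.det ≠ 0 →
    ∃ T : Matrix (Fin 2) (Fin 2) F, Tᵀ = T ∧ G (T * R)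
  det_trace : ∃ D t : F, ∀ X : Matrix (Fin 2) (Fin 2) F, X.det = D → X.trace = t → G X
  triangular : ∀ d : F, d ≠ 0 → ∃ D : F, ∀ a : F, a * d = D → G !![a, 0; 1, d]

variable {G : Matrix (Fin 2) (Fin 2) F → Prop}

/-- The case where the second row of `R` vanishes. -/
theorem Reach.exists_row (hG : Reach G) (P R : Matrix (Fin 2) (Fin 2) F) (h0 : R 1 0 = 0)
    (h1 : R 1 1 = 0) (hR : R ≠ 0) (hsym : Pᵀ * R = Rᵀ * P)
    (hker : ∀ v : Fin 2 → F, P *ᵥ v = 0 → R *ᵥ v = 0 → v = 0) :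
    ∃ T : Matrix (Fin 2) (Fin 2) F, Tᵀ = T ∧ G (P + T * R) := by
  obtain ⟨r, s, rfl⟩ : ∃ r s : F, R = !![r, s; 0, 0] :=
    ⟨R 0 0, R 0 1, by ext i j; fin_cases i <;> fin_cases j <;> simp [h0, h1]⟩
  have hrel : s * P 0 0 = r * P 0 1 := by
    have := congrFun (congrFun hsym 0) 1
    simp [Matrix.mul_apply, Fin.sum_univ_two] at this
    linear_combination this
  have hrs : r ≠ 0 ∨ s ≠ 0 := by
    by_contra hc
    push Not at hc
    exact hR (by ext i j; fin_cases i <;> fin_cases j <;> simp [hc.1, hc.2])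
  have hm : r * P 1 1 - s * P 1 0 ≠ 0 := by
    intro e
    have hv := hker ![s, -r] (by
      ext i
      fin_cases i
      · simp [Matrix.mulVec, dotProduct, Fin.sum_univ_two]; linear_combination hrel
      · simp [Matrix.mulVec, dotProduct, Fin.sum_univ_two]; linear_combination -e) (by
      ext i
      fin_cases i <;> simp [Matrix.mulVec, dotProduct, Fin.sum_univ_two] <;> ring)
    have hs := congrFun hv 0
    have hr := congrFun hv 1
    simp at hs hr
    rcases hrs with h | h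
    · exact h hr
    · exact h hs
  have hprod : ∀ x y : F, P + !![x, y; y, 0] * !![r, s; 0, 0] =
      !![P 0 0 + x * r, P 0 1 + x * s; P 1 0 + y * r, P 1 1 + y * s] := by
    intro x y
    ext i j
    fin_cases i <;> fin_cases j <;> simp [Matrix.mul_apply, Fin.sum_univ_two]
  by_cases hs : s = 0
  · subst hs
    have hr : r ≠ 0 := hrs.resolve_right (fun h => h rfl)
    have hP01 : P 0 1 = 0 := (mul_eq_zero.1 (show r * P 0 1 = 0 by linear_combination -hrel)).resolve_left hr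
    have hd : P 1 1 ≠ 0 := fun e => hm (by rw [e]; ring)
    obtain ⟨D, hD⟩ := hG.triangular _ hd
    refine ⟨!![(D / P 1 1 - P 0 0) / r, (1 - P 1 0) / r; (1 - P 1 0) / r, 0], sym_two _ _ _, ?_⟩
    have e := hD (D / P 1 1) (div_mul_cancel₀ _ hd)
    rw [hprod, hP01]
    convert e using 2
    ext i j
    fin_cases i <;> fin_cases j <;> simp <;> field_simp <;> ring
  · obtain ⟨D, t, hDt⟩ := hG.det_trace
    obtain ⟨l, hl⟩ : ∃ l : F, l * s = P 0 1 := ⟨P 0 1 / s, div_mul_cancel₀ _ hs⟩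
    have hP00 : P 0 0 = l * r := mul_left_cancel₀ hs (by linear_combination hrel - r * hl)
    obtain ⟨x, hx⟩ : ∃ x : F, (l + x) * (r * P 1 1 - s * P 1 0) = D :=
      ⟨D / (r * P 1 1 - s * P 1 0) - l, by rw [add_sub_cancel, div_mul_cancel₀ _ hm]⟩
    obtain ⟨y, hy⟩ : ∃ y : F, y * s = t - P 1 1 - (P 0 0 + x * r) :=
      ⟨_, div_mul_cancel₀ _ hs⟩
    refine ⟨!![x, y; y, 0], sym_two _ _ _, ?_⟩
    rw [hprod]
    refine hDt _ ?_ ?_
    · rw [det_fin_two_of, hP00, ← hl]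
      linear_combination hx
    · simp [trace_fin_two]
      linear_combination hy

/-- `P + T R` reaches `G`. -/
theorem Reach.exists_add (hG : Reach G) (P R : Matrix (Fin 2) (Fin 2) F) (hR : R ≠ 0)
    (hsym : Pᵀ * R = Rᵀ * P) (hker : ∀ v : Fin 2 → F, P *ᵥ v = 0 → R *ᵥ v = 0 → v = 0) :
    ∃ T : Matrix (Fin 2) (Fin 2) F, Tᵀ = T ∧ G (P + T * R) := by
  by_cases hd : R.det = 0
  swap
  · obtain ⟨T, hT, hTG⟩ := hG.invertible R hd
    have hu : IsUnit R.det := isUnit_iff_ne_zero.2 hd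
    have hPR : (P * R⁻¹)ᵀ = P * R⁻¹ := by
      calc (P * R⁻¹)ᵀ = R⁻¹ᵀ * (Pᵀ * R) * R⁻¹ := by
            rw [transpose_mul, Matrix.mul_assoc, Matrix.mul_assoc Pᵀ, Matrix.mul_nonsing_inv _ hu,
              Matrix.mul_one]
        _ = P * R⁻¹ := by
            rw [hsym, ← Matrix.mul_assoc, ← transpose_mul, Matrix.mul_nonsing_inv _ hu,
              transpose_one, Matrix.one_mul]
    refine ⟨T - P * R⁻¹, by rw [transpose_sub, hT, hPR], ?_⟩
    rwa [Matrix.sub_mul, Matrix.mul_assoc, Matrix.nonsing_inv_mul _ hu, Matrix.mul_one,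
      add_sub_cancel]
  -- a left kernel vector `l` as the second column of `w`
  obtain ⟨l0, l1, hl, hla, hlb⟩ : ∃ l0 l1 : F, (l0 ≠ 0 ∨ l1 ≠ 0) ∧
      l0 * R 0 0 + l1 * R 1 0 = 0 ∧ l0 * R 0 1 + l1 * R 1 1 = 0 := by
    rw [det_fin_two] at hd
    by_cases hc : R 1 0 ≠ 0 ∨ R 0 0 ≠ 0
    · exact ⟨R 1 0, -R 0 0, hc.imp id neg_ne_zero.2, by ring, by linear_combination -hd⟩
    · push Not at hc
      refine ⟨R 1 1, -R 0 1, ?_, by rw [hc.1, hc.2]; ring, by ring⟩
      by_contra hc'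
      push Not at hc'
      refine hR ?_
      ext i j
      fin_cases i <;> fin_cases j <;> simp [hc.1, hc.2, neg_eq_zero.1 hc'.2, hc'.1]
  obtain ⟨a, b, hw⟩ : ∃ a b : F, a * l1 - l0 * b ≠ 0 := by
    rcases hl with h | h
    · exact ⟨0, 1, by simpa using h⟩
    · exact ⟨1, 0, by simpa using h⟩
  set w : Matrix (Fin 2) (Fin 2) F := !![a, l0; b, l1] with hwdef
  have hwd : w.det ≠ 0 := by rw [hwdef, det_fin_two_of]; exact hw
  have hwu : IsUnit w.det := isUnit_iff_ne_zero.2 hwd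
  have hwv : ∀ v : Fin 2 → F, w *ᵥ v = 0 → v = 0 := fun v e => by
    rw [← one_mulVec v, ← Matrix.nonsing_inv_mul _ hwu, ← mulVec_mulVec, e, mulVec_zero]
  have hrow : ∀ j, (wᵀ * R * w) 1 j = 0 := fun j => by
    have e0 : (wᵀ * R) 1 0 = 0 := by simpa [hwdef, Matrix.mul_apply, Fin.sum_univ_two] using hla
    have e1 : (wᵀ * R) 1 1 = 0 := by simpa [hwdef, Matrix.mul_apply, Fin.sum_univ_two] using hlb
    rw [Matrix.mul_apply, Fin.sum_univ_two, e0, e1, zero_mul, zero_mul, add_zero]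
  have hwt : wᵀ⁻¹ * wᵀ = 1 := Matrix.nonsing_inv_mul _ (by rwa [det_transpose])
  have hR' : wᵀ * R * w ≠ 0 := fun e => hR (by
    calc R = (wᵀ⁻¹ * wᵀ) * R * (w * w⁻¹) := by
          rw [hwt, Matrix.mul_nonsing_inv _ hwu, Matrix.one_mul, Matrix.mul_one]
      _ = wᵀ⁻¹ * (wᵀ * R * w) * w⁻¹ := by simp [Matrix.mul_assoc]
      _ = 0 := by rw [e]; simp)
  obtain ⟨T, hT, hTG⟩ := hG.exists_row (w⁻¹ * P * w) (wᵀ * R * w) (hrow 0) (hrow 1) hR' (by
    calc (w⁻¹ * P * w)ᵀ * (wᵀ * R * w) = wᵀ * Pᵀ * (w⁻¹ᵀ * wᵀ) * R * w := by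
          rw [transpose_mul, transpose_mul]; simp only [Matrix.mul_assoc]
      _ = wᵀ * (Pᵀ * R) * w := by
          rw [← transpose_mul w w⁻¹, Matrix.mul_nonsing_inv _ hwu, transpose_one, Matrix.mul_one,
            Matrix.mul_assoc wᵀ Pᵀ R]
      _ = wᵀ * (Rᵀ * P) * w := by rw [hsym]
      _ = wᵀ * Rᵀ * (w * w⁻¹) * P * w := by
          rw [Matrix.mul_nonsing_inv _ hwu, Matrix.mul_one, Matrix.mul_assoc wᵀ Rᵀ P]
      _ = (wᵀ * R * w)ᵀ * (w⁻¹ * P * w) := by
          rw [transpose_mul, transpose_mul, transpose_transpose]; simp only [Matrix.mul_assoc])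
    (fun v hPv hRv => hwv v (hker _
      (by
        rw [mulVec_mulVec, show P * w = w * (w⁻¹ * P * w) by
          rw [← Matrix.mul_assoc w, ← Matrix.mul_assoc w, Matrix.mul_nonsing_inv _ hwu,
            Matrix.one_mul], ← mulVec_mulVec, hPv, mulVec_zero])
      (by
        rw [mulVec_mulVec, show R * w = wᵀ⁻¹ * (wᵀ * R * w) by
          rw [← Matrix.mul_assoc wᵀ⁻¹, ← Matrix.mul_assoc wᵀ⁻¹, hwt, Matrix.one_mul],
          ← mulVec_mulVec, hRv, mulVec_zero])))
  refine ⟨w * T * wᵀ, by simp [transpose_mul, hT, Matrix.mul_assoc], ?_⟩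
  have := hG.conj _ w hwd hTG
  convert this using 1
  rw [Matrix.mul_add, Matrix.add_mul,
    show w * (w⁻¹ * P * w) * w⁻¹ = (w * w⁻¹) * P * (w * w⁻¹) by simp [Matrix.mul_assoc],
    show w * (T * (wᵀ * R * w)) * w⁻¹ = w * T * wᵀ * R * (w * w⁻¹) by simp [Matrix.mul_assoc],
    Matrix.mul_nonsing_inv _ hwu, Matrix.one_mul, Matrix.mul_one, Matrix.mul_one]

/-- Every non-central element is conjugate to one with upper left block in `G`. -/
theorem Reach.exists_conj (hG : Reach G) (g : Sp F) (hg : g ∉ Subgroup.center (Sp F)) :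
    ∃ k : Sp F, G (k * g * k⁻¹).1.toBlocks₁₁ := by
  obtain ⟨k, hk⟩ := exists_conj_block_ne_zero g hg
  set g' := k * g * k⁻¹
  obtain ⟨A, B, C, D, hgeq⟩ : ∃ A B C D, g'.1 = fromBlocks A B C D :=
    ⟨_, _, _, _, (fromBlocks_toBlocks g'.1).symm⟩
  obtain ⟨r1, -, -⟩ := SymplecticGroup.fromBlocks_mem_iff.1 (hgeq ▸ g'.2)
  rw [hgeq, toBlocks_fromBlocks₂₁] at hk
  obtain ⟨T, hT, hTG⟩ := hG.exists_add A C hk r1 fun v hA hC => by
    have h : g'.1 *ᵥ Sum.elim v 0 = 0 := by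
      rw [hgeq, fromBlocks_mulVec]
      funext i
      cases i <;> simp [hA, hC]
    have hu : IsUnit g'.1.det := SymplecticGroup.symplectic_det g'.2
    have h0 : (Sum.elim v 0 : Fin 2 ⊕ Fin 2 → F) = 0 := by
      rw [← one_mulVec (Sum.elim v 0 : Fin 2 ⊕ Fin 2 → F), ← Matrix.nonsing_inv_mul _ hu,
        ← mulVec_mulVec, h, mulVec_zero]
    funext i
    exact congrFun h0 (Sum.inl i)
  refine ⟨up T hT * k, ?_⟩
  have e : up T hT * k * g * (up T hT * k)⁻¹ = up T hT * g' * (up T hT)⁻¹ := by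
    simp only [g']; group
  rw [e, up_conj_block, hgeq, toBlocks_fromBlocks₁₁, toBlocks_fromBlocks₂₁]
  exact hTG

end CfsgLib.KnownB.PSpFourSquare
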