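import Cfsg.Agent.Lib.KnownB.PSpFourSquare.Criteria
import Cfsg.Agent.Lib.KnownB.PSpFourSquare.Frame
import Cfsg.Prelude.Def_Classical

/-!
# `PSp₄(q)`, `q ≥ 3`: a semisimple class whose square covers all nontrivial elements
-/

set_option autoImplicit false

namespace CfsgLib.KnownB.PSpFourSquare

open Matrix

variable {F : Type*} [Field F]

/-- The reachable property in odd characteristic. -/
theorem reach_odd [Fintype F] (hF2 : (2 : F) ≠ 0) {K : Params F} (hδ : K.δ = -1) (hτ : K.τ ≠ 0) :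
    Reach K.Good := by
  refine ⟨fun X P hP h => h.conj P hP, fun R hR => ?_,
    ⟨1, 0, fun X hd ht => K.good_odd hF2 hδ hτ X hd fun e => hF2 ?_⟩,
    fun d _ => ⟨1, fun a ha => K.good_odd hF2 hδ hτ _ (by rw [det_fin_two_of]; linear_combination ha)
      fun e => one_ne_zero (α := F) (by simpa using congrFun (congrFun e 1) 0)⟩⟩
  · obtain ⟨u, hu⟩ : ∃ u : F, u * R.det = 1 := ⟨R.det⁻¹, inv_mul_cancel₀ hR⟩
    have hdet : ∀ s : F, (!![1, s; s, u + s * s] * R).det = 1 := fun s => by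
      rw [det_mul, det_fin_two_of]; linear_combination hu
    by_cases h0 : !![1, (0:F); 0, u + 0 * 0] * R = -1
    · refine ⟨!![1, 1; 1, u + 1 * 1], sym_two _ _ _, K.good_odd hF2 hδ hτ _ (hdet 1) fun e => ?_⟩
      have hu' : IsUnit R.det := isUnit_iff_ne_zero.2 hR
      have e' := congrArg (· * R⁻¹) (h0.trans e.symm)
      simp only [Matrix.mul_assoc, Matrix.mul_nonsing_inv _ hu', Matrix.mul_one] at e'
      exact zero_ne_one (α := F) (congrFun (congrFun e' 0) 1)
    · exact ⟨_, sym_two _ _ _, K.good_odd hF2 hδ hτ _ (hdet 0) h0⟩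
  · rw [e, trace_fin_two] at ht
    simp at ht
    linear_combination -ht

/-- The reachable property in characteristic two. -/
theorem reach_even [Fintype F] (hF2 : (2 : F) = 0) {K : Params F} (hδ : K.δ ≠ 1) :
    Reach K.Good := by
  haveI : CharP F 2 := CharTwo.of_one_ne_zero_of_two_eq_zero one_ne_zero hF2
  have hd0 : K.δ ^ 2 ≠ 0 := pow_ne_zero 2 K.hδ
  refine ⟨fun X P hP h => h.conj P hP, fun R hR => ?_,
    ⟨K.δ ^ 2, 1, fun X hd ht => K.good_even hF2 X (Or.inr hd) (by rw [ht]; exact one_ne_zero)⟩,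
    fun d hd => ?_⟩
  · obtain ⟨e, he⟩ : ∃ e : F, e * R.det = K.δ ^ 2 := ⟨_, div_mul_cancel₀ _ hR⟩
    have good : ∀ x y z : F, x * z - y * y = e →
        x * R 0 0 + y * (R 0 1 + R 1 0) + z * R 1 1 ≠ 0 →
        ∃ T : Matrix (Fin 2) (Fin 2) F, Tᵀ = T ∧ K.Good (T * R) := fun x y z h ht =>
      ⟨!![x, y; y, z], sym_two _ _ _, K.good_even hF2 _
        (Or.inr (by rw [det_mul, det_fin_two_of, h, he])) (by
          intro h0
          refine ht ?_
          simp [trace_fin_two, Matrix.vecMul, dotProduct, Fin.sum_univ_two] at h0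
          linear_combination h0)⟩
    by_cases c1 : R 0 0 + e * R 1 1 ≠ 0
    · exact good 1 0 e (by ring) (by simpa using c1)
    push Not at c1
    by_cases c2 : K.δ * R 0 0 + e / K.δ * R 1 1 ≠ 0
    · exact good K.δ 0 (e / K.δ) (by rw [mul_zero, sub_zero, mul_div_cancel₀ _ K.hδ]) (by simpa using c2)
    push Not at c2
    by_cases c3 : R 0 0 + (R 0 1 + R 1 0) + (e + 1) * R 1 1 ≠ 0
    · exact good 1 1 (e + 1) (by ring) (by simpa using c3)
    push Not at c3
    have hδ2 : K.δ * K.δ - 1 ≠ 0 := fun h => hδ (CharTwo.sq_injective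
      (show K.δ ^ 2 = (1:F) ^ 2 by linear_combination h))
    field_simp [K.hδ] at c2
    have h00 : R 0 0 = 0 := (mul_eq_zero.1 (show (K.δ * K.δ - 1) * R 0 0 = 0 by
      linear_combination c2 - c1)).resolve_left hδ2
    have he0 : e ≠ 0 := fun h => hd0 (by rw [← he, h, zero_mul])
    have h11 : R 1 1 = 0 := (mul_eq_zero.1 (show e * R 1 1 = 0 by
      linear_combination c1 - h00)).resolve_left he0
    have h10 : R 1 0 = R 0 1 := by
      linear_combination c3 - h00 - (e + 1) * h11 - R 0 1 * hF2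
    have hRT : Rᵀ = R := by
      ext i j; fin_cases i <;> fin_cases j <;> simp [h10]
    refine ⟨R⁻¹, by rw [transpose_nonsing_inv, hRT], ?_⟩
    rw [Matrix.nonsing_inv_mul _ (isUnit_iff_ne_zero.2 hR)]
    exact K.good_one
  · by_cases hdd : d = K.δ
    · refine ⟨1, fun a ha => K.good_even hF2 _ (Or.inl (by rw [det_fin_two_of]; linear_combination ha))
        fun h0 => hδ (CharTwo.sq_injective (show K.δ ^ 2 = (1:F) ^ 2 from ?_))⟩
      simp [trace_fin_two] at h0
      rw [hdd] at h0 ha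
      linear_combination K.δ * h0 - ha - hF2
    · refine ⟨K.δ ^ 2, fun a ha => K.good_even hF2 _
        (Or.inr (by rw [det_fin_two_of]; linear_combination ha))
        fun h0 => hdd (CharTwo.sq_injective (show d ^ 2 = K.δ ^ 2 from ?_))⟩
      simp [trace_fin_two] at h0
      linear_combination d * h0 - ha - K.δ ^ 2 * hF2

theorem exists_comb (δ τ : F) (k : ℕ) :
    ∃ α γ : F, comp δ τ ^ k = α • comp δ τ + γ • 1 := by
  induction k with
  | zero => exact ⟨0, 1, by simp⟩
  | succ k ih =>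
    obtain ⟨α, γ, e⟩ := ih
    refine ⟨α * τ + γ, -(α * δ), ?_⟩
    rw [pow_succ, e]
    ext i j
    fin_cases i <;> fin_cases j <;> simp [comp, Matrix.mul_apply, Fin.sum_univ_two] <;> ring

/-- The order of `x` is prime to the characteristic. -/
theorem Params.not_dvd_orderOf [Finite F] (K : Params F) (p : ℕ) [Fact p.Prime] [CharP F p] :
    ¬ p ∣ orderOf K.x := by
  intro hp
  haveI : Finite (Sp F) := inferInstance
  have hx0 : orderOf K.x ≠ 0 := (orderOf_pos K.x).ne'
  set A := comp K.δ K.τ with hA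
  have hpow : ∀ k : ℕ, (K.x ^ k).1.toBlocks₁₁ = A ^ k ∧ (K.x ^ k).1.toBlocks₁₂ = 0 ∧
      (K.x ^ k).1.toBlocks₂₁ = 0 ∧ (K.x ^ k).1.toBlocks₂₂ = (A⁻¹ᵀ) ^ k := by
    intro k
    induction k with
    | zero => simp [← fromBlocks_one]
    | succ k ih =>
      obtain ⟨a, b, c, d⟩ := ih
      have e : (K.x ^ (k + 1)).1 = fromBlocks (A ^ k) 0 0 ((A⁻¹ᵀ) ^ k) * fromBlocks A 0 0 A⁻¹ᵀ := by
        rw [← a, ← d]
        conv_rhs => arg 1; rw [show (0 : Matrix (Fin 2) (Fin 2) F) = (K.x ^ k).1.toBlocks₁₂ from b.symm]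
        rw [pow_succ]
        show (K.x ^ k).1 * K.x.1 = _
        nth_rewrite 1 [← fromBlocks_toBlocks (K.x ^ k).1]
        rw [b, c]
        rfl
      rw [e, fromBlocks_multiply]
      simp [pow_succ]
  set k := orderOf K.x / p
  have hk : k * p = orderOf K.x := Nat.div_mul_cancel hp
  have h1 : A ^ (k * p) = 1 := by
    rw [← (hpow _).1, hk, pow_orderOf_eq_one]
    simp [← fromBlocks_one]
  obtain ⟨α, γ, hc⟩ := exists_comb K.δ K.τ k
  have hN : (A ^ k - 1) ^ p = 0 := by
    rw [sub_pow_char_of_commute p (Commute.one_right _), ← pow_mul, h1, one_pow, sub_self]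
  have hN' : A ^ k - 1 = !![γ - 1, -(α * K.δ); α, α * K.τ + γ - 1] := by
    rw [hA, hc]
    ext i j
    fin_cases i <;> fin_cases j <;> simp [comp] <;> ring
  have htr : (A ^ k - 1).trace = 0 :=
    (Matrix.isNilpotent_trace_of_isNilpotent ⟨p, hN⟩).eq_zero
  have hdet : (A ^ k - 1).det = 0 := by
    refine pow_eq_zero_iff (Fact.out : p.Prime).ne_zero |>.1 ?_
    rw [← det_pow, hN, det_zero]
  rw [hN', trace_fin_two] at htr
  rw [hN', det_fin_two_of] at hdet
  simp at htr
  have hα : α = 0 := by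
    by_contra h
    apply K.hsq
    refine mul_left_cancel₀ (pow_ne_zero 2 h) ?_
    linear_combination (-4) * hdet + ((2 * (γ - 1) + α * K.τ)) * htr
  subst hα
  have hγ : γ = 1 := sub_eq_zero.1 (mul_self_eq_zero.1 (by linear_combination hdet))
  subst hγ
  rw [zero_smul, one_smul, zero_add, ← hA] at hc
  have hk1 : K.x ^ k = 1 := by
    apply Subtype.ext
    rw [← fromBlocks_toBlocks (K.x ^ k).1, (hpow k).1, (hpow k).2.1, (hpow k).2.2.1,
      (hpow k).2.2.2, hc, ← transpose_pow, Matrix.inv_pow', hc]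
    simp
  have hkpos : 0 < k := Nat.div_pos (Nat.le_of_dvd (Nat.pos_of_ne_zero hx0) hp) (Fact.out : p.Prime).pos
  have := Nat.le_of_dvd hkpos (orderOf_dvd_of_pow_eq_one hk1)
  have h2 := (Fact.out : p.Prime).two_le
  nlinarith

/-- The class in `PSp₄(q)`. -/
theorem exists_cover_psp [Fintype F] (p : ℕ) [Fact p.Prime] [CharP F p]
    (h3 : 3 ≤ Fintype.card F) :
    ∃ x : Cfsg.PSp 2 F, ¬ p ∣ orderOf x ∧ ∀ g : Cfsg.PSp 2 F, g ≠ 1 →
      ∃ u v : Cfsg.PSp 2 F, g = (u * x * u⁻¹) * (v * x * v⁻¹) := by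
  obtain ⟨K, hK⟩ : ∃ K : Params F, Reach K.Good := by
    by_cases hF2 : (2 : F) = 0
    · classical
      obtain ⟨w, hw⟩ := Finset.exists_mem_notMem_of_card_lt_card (s := ({0, 1} : Finset F))
        (t := Finset.univ) (lt_of_le_of_lt Finset.card_le_two (by rw [Finset.card_univ]; omega))
      simp at hw
      obtain ⟨K, hδ⟩ := exists_params_even hF2 w hw.1 hw.2
      exact ⟨K, reach_even hF2 (hδ ▸ hw.2)⟩
    · obtain ⟨K, hδ, hτ⟩ := exists_params_odd hF2
      exact ⟨K, reach_odd hF2 hδ hτ⟩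
  refine ⟨QuotientGroup.mk' _ K.x, fun hp => K.not_dvd_orderOf p (hp.trans (orderOf_map_dvd _ K.x)),
    fun g hg => ?_⟩
  obtain ⟨h, rfl⟩ := QuotientGroup.mk'_surjective _ g
  have hc : h ∉ Subgroup.center (Sp F) := fun hc => hg ((QuotientGroup.eq_one_iff h).2 hc)
  obtain ⟨k, hk⟩ := hK.exists_conj h hc
  obtain ⟨u, v, huv⟩ := cover_of_conj k (K.cover_of_block _ hk)
  exact ⟨QuotientGroup.mk' _ u, QuotientGroup.mk' _ v, by simp only [huv, map_mul, map_inv]⟩

end CfsgLib.KnownB.PSpFourSquare
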