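import Cfsg.Agent.Lib.KnownB.PSpFourSquare.Class

/-!
# Which `2 × 2` matrices are products of two conjugates of `A^{±1}`

For odd `q` (`δ = -1`): every matrix of determinant 1 other than `-1`. For even `q`: the identity
and every matrix of determinant `1` or `δ²` with nonzero trace.
-/

set_option autoImplicit false

namespace CfsgLib.KnownB.PSpFourSquare

open Matrix

variable {F : Type*} [Field F] {K : Params F}

theorem Params.good_one : K.Good 1 := by
  have hu : IsUnit (comp K.δ K.τ).det := isUnit_iff_ne_zero.2 K.det_ne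
  refine ⟨(comp K.δ K.τ)⁻¹, comp K.δ K.τ, ⟨by simpa [det_nonsing_inv] using K.det_ne, Or.inr ?_⟩,
    ⟨K.det_ne, Or.inl ⟨det_comp _ _, trace_comp _ _⟩⟩, (Matrix.nonsing_inv_mul _ hu).symm⟩
  rw [Matrix.nonsing_inv_nonsing_inv _ hu]
  exact ⟨det_comp _ _, trace_comp _ _⟩

theorem Params.Good.conj {X : Matrix (Fin 2) (Fin 2) F} (h : K.Good X)
    (P : Matrix (Fin 2) (Fin 2) F) (hP : P.det ≠ 0) : K.Good (P * X * P⁻¹) := by
  obtain ⟨Y, Z, hY, hZ, rfl⟩ := h
  refine ⟨P * Y * P⁻¹, P * Z * P⁻¹, hY.conj P hP, hZ.conj P hP, ?_⟩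
  rw [show P * Y * P⁻¹ * (P * Z * P⁻¹) = P * Y * (P⁻¹ * P) * Z * P⁻¹ by simp [Matrix.mul_assoc],
    Matrix.nonsing_inv_mul _ (isUnit_iff_ne_zero.2 hP), Matrix.mul_one, Matrix.mul_assoc P Y Z]

/-- Goodness of `X` can be tested on its companion matrix. -/
theorem Params.good_of_comp {X : Matrix (Fin 2) (Fin 2) F} (hX : ∀ c : F, X ≠ c • 1)
    (h : K.Good (comp X.det X.trace)) : K.Good X := by
  obtain ⟨P, hP, e⟩ := exists_comp_conj X hX
  have := h.conj P hP
  rwa [← e, Matrix.mul_assoc, Matrix.mul_nonsing_inv _ (isUnit_iff_ne_zero.2 hP),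
    Matrix.mul_one] at this

/-- The form `A⁻¹ A`. -/
theorem Params.good_of_inv {X : Matrix (Fin 2) (Fin 2) F} (hX : X.det = 1)
    (Y : Matrix (Fin 2) (Fin 2) F) (hY : K.Like Y) (hYX : (Y * X).trace = K.τ) : K.Good X := by
  have hu : IsUnit Y.det := isUnit_iff_ne_zero.2 hY.det_ne
  have hZ : K.Like (Y * X) := ⟨by rw [det_mul, hY.1, hX, mul_one], hYX⟩
  refine ⟨Y⁻¹, Y * X, ⟨by simpa [det_nonsing_inv] using hY.det_ne, Or.inr ?_⟩,
    ⟨hZ.det_ne, Or.inl hZ⟩, ?_⟩
  · rwa [Matrix.nonsing_inv_nonsing_inv _ hu]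
  · rw [← Matrix.mul_assoc, Matrix.nonsing_inv_mul _ hu, Matrix.one_mul]

/-- The form `A A`. -/
theorem Params.good_of_sq {X : Matrix (Fin 2) (Fin 2) F} (hX : X.det = K.δ ^ 2)
    (Y : Matrix (Fin 2) (Fin 2) F) (hY : K.Like Y) (hYX : (Y * X).trace = K.δ * K.τ) :
    K.Good X := by
  have hd := K.hδ
  have hZ : K.Like (K.δ⁻¹ • (Y * X)) := ⟨by
    rw [det_smul, det_mul, hY.1, hX, Fintype.card_fin]
    field_simp,
    by rw [trace_smul, hYX, smul_eq_mul, inv_mul_cancel_left₀ hd]⟩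
  have hA : K.Like Y.adjugate := ⟨by rw [det_adjugate, hY.1]; simp,
    by rw [← hY.2, adjugate_fin_two, trace_fin_two, trace_fin_two]; simp [add_comm]⟩
  refine ⟨Y.adjugate, K.δ⁻¹ • (Y * X), ⟨hA.det_ne, Or.inl hA⟩, ⟨hZ.det_ne, Or.inl hZ⟩, ?_⟩
  rw [Matrix.mul_smul, ← Matrix.mul_assoc, adjugate_mul, hY.1, Matrix.smul_mul, Matrix.one_mul,
    smul_smul, inv_mul_cancel₀ hd, one_smul]

theorem trace_mul_comp (a b c σ D t : F) :
    (!![a, b; c, σ - a] * comp D t).trace = b - c * D + (σ - a) * t := by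
  simp [comp, trace_fin_two]
  ring

/-- Odd characteristic: every matrix of determinant one other than `-1` is good. -/
theorem Params.good_odd [Fintype F] (hF2 : (2 : F) ≠ 0) (hδ : K.δ = -1) (hτ : K.τ ≠ 0)
    (X : Matrix (Fin 2) (Fin 2) F) (hd : X.det = 1) (hX : X ≠ -1) : K.Good X := by
  by_cases hs : ∃ c : F, X = c • 1
  · obtain ⟨c, rfl⟩ := hs
    rw [det_smul, det_one, mul_one, Fintype.card_fin] at hd
    have hc : c = 1 := (sq_eq_one_iff.1 hd).resolve_right fun e => hX (by rw [e, neg_smul, one_smul])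
    rw [hc, one_smul]
    exact K.good_one
  push Not at hs
  refine K.good_of_comp hs ?_
  rw [hd]
  set t := X.trace
  clear_value t
  clear hs hX hd X
  suffices h : ∃ σ : F, (σ = K.τ ∨ σ = -K.τ) ∧ ∃ a b : F,
      a ^ 2 - t * a * b + b ^ 2 - σ * a + (σ * t - K.τ) * b - 1 = 0 by
    obtain ⟨σ, hσ, a, b, e⟩ := h
    have hdet : (!![a, b; b + (σ - a) * t - K.τ, σ - a] : Matrix (Fin 2) (Fin 2) F).det = K.δ := by
      rw [det_fin_two_of, hδ]; linear_combination -e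
    have htr : (!![a, b; b + (σ - a) * t - K.τ, σ - a] : Matrix (Fin 2) (Fin 2) F).trace = σ := by
      simp [trace_fin_two]
    have htr2 : (!![a, b; b + (σ - a) * t - K.τ, σ - a] * comp 1 t).trace = K.τ := by
      rw [trace_mul_comp]; ring
    rcases hσ with hσ | hσ
    · exact K.good_of_inv (det_comp _ _) _ ⟨hdet, htr.trans hσ⟩ htr2
    · refine K.good_of_sq (by rw [det_comp, hδ]; ring)
        (-!![a, b; b + (σ - a) * t - K.τ, σ - a]) ⟨?_, ?_⟩ ?_
      · rw [det_neg, hdet, Fintype.card_fin]; ring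
      · rw [trace_neg, htr, hσ, neg_neg]
      · rw [Matrix.neg_mul, trace_neg, htr2, hδ]; ring
  have h2τ : 2 * K.τ ≠ 0 := mul_ne_zero hF2 hτ
  by_cases h1 : t = 2
  · subst h1
    refine ⟨-K.τ, Or.inr rfl, -1 / (2 * K.τ), -1 / (2 * K.τ), ?_⟩
    field_simp
    ring
  by_cases h2 : t = -2
  · subst h2
    refine ⟨K.τ, Or.inl rfl, 1 / (2 * K.τ), -1 / (2 * K.τ), ?_⟩
    field_simp
    ring
  have hD : 1 - t ^ 2 / 4 ≠ 0 := by
    intro e
    have h4 : (4 : F) ≠ 0 := by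
      rw [show (4 : F) = 2 * 2 by norm_num]; exact mul_ne_zero hF2 hF2
    have : (t - 2) * (t + 2) = 0 := by
      field_simp at e
      linear_combination -e
    rcases mul_eq_zero.1 this with e' | e'
    · exact h1 (sub_eq_zero.1 e')
    · exact h2 (eq_neg_of_add_eq_zero_left e')
  have hcardodd : Fintype.card F % 2 = 1 :=
    FiniteField.odd_card_of_char_ne_two fun h => hF2 (by
      haveI := ringChar.charP F
      exact (CharP.cast_eq_zero_iff F (ringChar F) 2).2 (by rw [h]))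
  obtain ⟨x, y, hxy⟩ := FiniteField.exists_root_sum_quadratic
    (f := Polynomial.C 1 * Polynomial.X ^ 2 + Polynomial.C (-K.τ) * Polynomial.X + Polynomial.C (-1))
    (g := Polynomial.C (1 - t ^ 2 / 4) * Polynomial.X ^ 2 +
      Polynomial.C (K.τ * t - K.τ - K.τ * t / 2) * Polynomial.X + Polynomial.C 0)
    (Polynomial.degree_quadratic one_ne_zero) (Polynomial.degree_quadratic hD) hcardodd
  refine ⟨K.τ, Or.inl rfl, x + t * y / 2, y, ?_⟩
  simp at hxy
  have h4 : (4 : F) ≠ 0 := by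
    rw [show (4 : F) = 2 * 2 by norm_num]; exact mul_ne_zero hF2 hF2
  field_simp at hxy ⊢
  refine mul_left_cancel₀ hF2 ?_
  linear_combination hxy

/-- Characteristic two: determinant `1` or `δ²` and nonzero trace imply goodness. -/
theorem Params.good_even [Fintype F] (hF2 : (2 : F) = 0) (X : Matrix (Fin 2) (Fin 2) F)
    (hd : X.det = 1 ∨ X.det = K.δ ^ 2) (ht : X.trace ≠ 0) : K.Good X := by
  haveI : CharP F 2 := CharTwo.of_one_ne_zero_of_two_eq_zero one_ne_zero hF2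
  refine K.good_of_comp (fun c e => ht ?_) ?_
  · rw [e, trace_fin_two]
    simp only [Matrix.smul_apply, Matrix.one_apply_eq, smul_eq_mul, mul_one]
    linear_combination c * hF2
  set D := X.det
  set t := X.trace
  clear_value D t
  have key : ∀ μ : F, ∃ a b c : F, a * (K.τ - a) - b * c = K.δ ∧
      b - c * D + (K.τ - a) * t = μ * K.τ := by
    intro μ
    obtain ⟨c, hct⟩ : ∃ c : F, c * t = K.τ := ⟨K.τ / t, div_mul_cancel₀ _ ht⟩
    obtain ⟨a, ha⟩ := Finite.surjective_of_injective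
      (f := fun x : F => x ^ 2) (fun x y h => CharTwo.sq_injective h)
      (K.δ + c * μ * K.τ + c ^ 2 * D + K.τ ^ 2)
    refine ⟨a, μ * K.τ + c * D - (K.τ - a) * t, c, ?_, by ring⟩
    simp only at ha
    linear_combination (-1) * ha + (K.τ - a) * hct + (-(K.δ + c * μ * K.τ + c ^ 2 * D)) * hF2
  have htr : ∀ a b c : F, (!![a, b; c, K.τ - a] : Matrix (Fin 2) (Fin 2) F).trace = K.τ :=
    fun a b c => by simp [trace_fin_two]
  rcases hd with h | h
  · obtain ⟨a, b, c, h1, h2⟩ := key 1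
    exact K.good_of_inv (by rw [det_comp, h]) !![a, b; c, K.τ - a]
      ⟨by rw [det_fin_two_of, h1], htr a b c⟩ (by rw [trace_mul_comp, h2, one_mul])
  · obtain ⟨a, b, c, h1, h2⟩ := key K.δ
    exact K.good_of_sq (by rw [det_comp, h]) !![a, b; c, K.τ - a]
      ⟨by rw [det_fin_two_of, h1], htr a b c⟩ (by rw [trace_mul_comp, h2])

theorem comp_mul_sym (δ τ : F) (S : Matrix (Fin 2) (Fin 2) F) (hS : Sᵀ = S)
    (h : comp δ τ * S * (comp δ τ)ᵀ = S) :
    δ ^ 2 * S 1 1 = S 0 0 ∧ -δ * S 0 1 - δ * τ * S 1 1 = S 0 1 ∧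
      S 0 0 + 2 * τ * S 0 1 + τ ^ 2 * S 1 1 = S 1 1 := by
  have hs : S 1 0 = S 0 1 := congrFun (congrFun hS 0) 1
  obtain ⟨a, b, c, rfl⟩ : ∃ a b c : F, S = !![a, b; b, c] :=
    ⟨S 0 0, S 0 1, S 1 1, by ext i j; fin_cases i <;> fin_cases j <;> simp [hs]⟩
  have e : comp δ τ * !![a, b; b, c] * (comp δ τ)ᵀ =
      !![δ ^ 2 * c, -δ * b - δ * τ * c; -δ * b - δ * τ * c, a + 2 * τ * b + τ ^ 2 * c] := by
    ext i j
    fin_cases i <;> fin_cases j <;>
      simp [comp, Matrix.mul_apply, Fin.sum_univ_two] <;> ring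
  rw [e] at h
  exact ⟨by simpa using congrFun (congrFun h 0) 0, by simpa using congrFun (congrFun h 0) 1,
    by simpa using congrFun (congrFun h 1) 1⟩

/-- Parameters for odd characteristic. -/
theorem exists_params_odd (hF2 : (2 : F) ≠ 0) :
    ∃ K : Params F, K.δ = -1 ∧ K.τ ≠ 0 := by
  obtain ⟨τ, hτ, hτ4⟩ : ∃ τ : F, τ ≠ 0 ∧ τ ^ 2 + 4 ≠ 0 := by
    by_cases h5 : (5 : F) = 0
    · refine ⟨2, hF2, fun e => pow_ne_zero 3 hF2 ?_⟩
      linear_combination e
    · exact ⟨1, one_ne_zero, fun e => h5 (by linear_combination e)⟩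
  refine ⟨⟨-1, τ, neg_ne_zero.2 one_ne_zero, fun e => hτ4 (by linear_combination e), ?_⟩, rfl, hτ⟩
  intro S hS h
  obtain ⟨h00, h01, h11⟩ := comp_mul_sym _ _ S hS h
  have hs : S 1 0 = S 0 1 := congrFun (congrFun hS 0) 1
  have hc : S 1 1 = 0 := (mul_eq_zero.1 (show τ * S 1 1 = 0 by linear_combination h01)).resolve_left hτ
  have ha : S 0 0 = 0 := by linear_combination -h00 + hc
  have hb : S 0 1 = 0 :=
    (mul_eq_zero.1 (show 2 * τ * S 0 1 = 0 by linear_combination h11 - ha + (1 - τ ^ 2) * hc)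
      ).resolve_left (mul_ne_zero hF2 hτ)
  ext i j
  fin_cases i <;> fin_cases j <;> simp [hs, ha, hb, hc]

/-- Parameters for characteristic two and at least four elements. -/
theorem exists_params_even (hF2 : (2 : F) = 0) (w : F) (hw0 : w ≠ 0) (hw1 : w ≠ 1) :
    ∃ K : Params F, K.δ = w := by
  refine ⟨⟨w, w, hw0, fun e => hw0 (pow_eq_zero_iff two_ne_zero |>.1
    (by linear_combination e + 2 * w * hF2)), ?_⟩, rfl⟩
  intro S hS h
  obtain ⟨h00, h01, h11⟩ := comp_mul_sym _ _ S hS h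
  have hs : S 1 0 = S 0 1 := congrFun (congrFun hS 0) 1
  have hc : S 1 1 = 0 := by
    linear_combination -h11 + h00 + (S 0 0 - 0 + w * S 0 1) * hF2
  have ha : S 0 0 = 0 := by linear_combination -h00 + w ^ 2 * hc
  have hb : S 0 1 = 0 :=
    (mul_eq_zero.1 (show (w - 1) * S 0 1 = 0 by
      linear_combination -h01 - w * w * hc - S 0 1 * hF2)).resolve_left (sub_ne_zero.2 hw1)
  ext i j
  fin_cases i <;> fin_cases j <;> simp [hs, ha, hb, hc]

end CfsgLib.KnownB.PSpFourSquare
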