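import Mathlib

/-!
# Siegel blocks of `Sp₄`

The elements `up S = [[1,S],[0,1]]`, `low S = [[1,0],[S,1]]`, `lev P = diag(P, P⁻ᵀ)` and `J`,
with the commutation rules between them.
-/

set_option autoImplicit false

namespace CfsgLib.KnownB.PSpFourSquare

open Matrix

variable {F : Type*} [Field F]

abbrev Sp (F : Type*) [Field F] : Type _ := ↥(Matrix.symplecticGroup (Fin 2) F)

/-- `[[1, S], [0, 1]]`. -/
def up (S : Matrix (Fin 2) (Fin 2) F) (hS : Sᵀ = S) : Sp F :=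
  ⟨fromBlocks 1 S 0 1, SymplecticGroup.fromBlocks_mem_iff.2 ⟨by simp, by simp [hS], by simp⟩⟩

/-- `[[1, 0], [S, 1]]`. -/
def low (S : Matrix (Fin 2) (Fin 2) F) (hS : Sᵀ = S) : Sp F :=
  ⟨fromBlocks 1 0 S 1, SymplecticGroup.fromBlocks_mem_iff.2 ⟨by simp [hS], by simp, by simp⟩⟩

/-- `diag(P, P⁻ᵀ)`. -/
noncomputable def lev (P : Matrix (Fin 2) (Fin 2) F) (hP : P.det ≠ 0) : Sp F :=
  ⟨fromBlocks P 0 0 P⁻¹ᵀ, SymplecticGroup.fromBlocks_mem_iff.2 ⟨by simp, by simp, by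
    rw [← transpose_mul, Matrix.nonsing_inv_mul _ (isUnit_iff_ne_zero.2 hP)]; simp⟩⟩

/-- The standard element `J` of `Sp₄`. -/
def jay (F : Type*) [Field F] : Sp F := ⟨Matrix.J (Fin 2) F, SymplecticGroup.J_mem (Fin 2) F⟩

theorem up_congr {S T : Matrix (Fin 2) (Fin 2) F} (h : S = T) (hS : Sᵀ = S) :
    up S hS = up T (h ▸ hS) := by subst h; rfl

theorem low_congr {S T : Matrix (Fin 2) (Fin 2) F} (h : S = T) (hS : Sᵀ = S) :
    low S hS = low T (h ▸ hS) := by subst h; rfl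

theorem lev_congr {P Q : Matrix (Fin 2) (Fin 2) F} (h : P = Q) (hP : P.det ≠ 0) :
    lev P hP = lev Q (h ▸ hP) := by subst h; rfl

theorem lev_one : lev (1 : Matrix (Fin 2) (Fin 2) F) (by simp) = 1 :=
  Subtype.ext (by simp [lev])

theorem lev_mul (P Q : Matrix (Fin 2) (Fin 2) F) (hP : P.det ≠ 0) (hQ : Q.det ≠ 0) :
    lev P hP * lev Q hQ = lev (P * Q) (by rw [det_mul]; exact mul_ne_zero hP hQ) := by
  apply Subtype.ext
  show fromBlocks P 0 0 P⁻¹ᵀ * fromBlocks Q 0 0 Q⁻¹ᵀ = fromBlocks (P * Q) 0 0 (P * Q)⁻¹ᵀ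
  simp [fromBlocks_multiply, Matrix.mul_inv_rev]

theorem lev_conj {P Y A : Matrix (Fin 2) (Fin 2) F} (hP : P.det ≠ 0) (hY : Y.det ≠ 0)
    (hA : A.det ≠ 0) (h : Y * P = P * A) : lev Y hY = lev P hP * lev A hA * (lev P hP)⁻¹ := by
  rw [eq_mul_inv_iff_mul_eq, lev_mul, lev_mul]
  exact lev_congr h _

theorem jay_lev (P : Matrix (Fin 2) (Fin 2) F) (hP : P.det ≠ 0) (h : P⁻¹ᵀ.det ≠ 0) :
    jay F * lev P hP * (jay F)⁻¹ = lev P⁻¹ᵀ h := by
  rw [mul_inv_eq_iff_eq_mul]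
  apply Subtype.ext
  show Matrix.J (Fin 2) F * fromBlocks P 0 0 P⁻¹ᵀ =
    fromBlocks P⁻¹ᵀ 0 0 (P⁻¹ᵀ)⁻¹ᵀ * Matrix.J (Fin 2) F
  rw [Matrix.J, fromBlocks_multiply, fromBlocks_multiply, transpose_nonsing_inv P⁻¹ᵀ,
    transpose_transpose, Matrix.nonsing_inv_nonsing_inv _ (isUnit_iff_ne_zero.2 hP)]
  simp

theorem up_mul (S T : Matrix (Fin 2) (Fin 2) F) (hS : Sᵀ = S) (hT : Tᵀ = T) :
    up S hS * up T hT = up (S + T) (by rw [transpose_add, hS, hT]) := by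
  apply Subtype.ext
  show fromBlocks 1 S 0 1 * fromBlocks 1 T 0 1 = fromBlocks 1 (S + T) 0 1
  simp [fromBlocks_multiply, add_comm]

theorem low_mul (S T : Matrix (Fin 2) (Fin 2) F) (hS : Sᵀ = S) (hT : Tᵀ = T) :
    low S hS * low T hT = low (S + T) (by rw [transpose_add, hS, hT]) := by
  apply Subtype.ext
  show fromBlocks 1 0 S 1 * fromBlocks 1 0 T 1 = fromBlocks 1 0 (S + T) 1
  simp [fromBlocks_multiply]

theorem up_inv (S : Matrix (Fin 2) (Fin 2) F) (hS : Sᵀ = S) :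
    (up S hS)⁻¹ = up (-S) (by rw [transpose_neg, hS]) := by
  refine inv_eq_of_mul_eq_one_right ?_
  rw [up_mul]
  exact Subtype.ext (by simp [up])

theorem low_inv (S : Matrix (Fin 2) (Fin 2) F) (hS : Sᵀ = S) :
    (low S hS)⁻¹ = low (-S) (by rw [transpose_neg, hS]) := by
  refine inv_eq_of_mul_eq_one_right ?_
  rw [low_mul]
  exact Subtype.ext (by simp [low])

theorem lev_up {P : Matrix (Fin 2) (Fin 2) F} (hP : P.det ≠ 0) (S : Matrix (Fin 2) (Fin 2) F)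
    (hS : Sᵀ = S) :
    lev P hP * up S hS =
      up (P * S * Pᵀ) (by simp [transpose_mul, hS, Matrix.mul_assoc]) * lev P hP := by
  apply Subtype.ext
  show fromBlocks P 0 0 P⁻¹ᵀ * fromBlocks 1 S 0 1 =
    fromBlocks 1 (P * S * Pᵀ) 0 1 * fromBlocks P 0 0 P⁻¹ᵀ
  simp only [fromBlocks_multiply, Matrix.mul_one, Matrix.one_mul, Matrix.mul_zero, Matrix.zero_mul,
    add_zero, zero_add]
  rw [Matrix.mul_assoc (P * S), ← transpose_mul,
    Matrix.nonsing_inv_mul _ (isUnit_iff_ne_zero.2 hP), transpose_one, Matrix.mul_one]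

theorem low_lev {P : Matrix (Fin 2) (Fin 2) F} (hP : P.det ≠ 0) (S : Matrix (Fin 2) (Fin 2) F)
    (hS : Sᵀ = S) :
    low S hS * lev P hP =
      lev P hP * low (Pᵀ * S * P) (by simp [transpose_mul, hS, Matrix.mul_assoc]) := by
  apply Subtype.ext
  show fromBlocks 1 0 S 1 * fromBlocks P 0 0 P⁻¹ᵀ =
    fromBlocks P 0 0 P⁻¹ᵀ * fromBlocks 1 0 (Pᵀ * S * P) 1
  simp only [fromBlocks_multiply, Matrix.mul_one, Matrix.one_mul, Matrix.mul_zero, Matrix.zero_mul,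
    add_zero, zero_add]
  rw [show P⁻¹ᵀ * (Pᵀ * S * P) = P⁻¹ᵀ * Pᵀ * S * P by simp [Matrix.mul_assoc], ← transpose_mul,
    Matrix.mul_nonsing_inv _ (isUnit_iff_ne_zero.2 hP), transpose_one, Matrix.one_mul]

/-- An element with invertible upper left block is `low · lev · up`. -/
theorem exists_dec (g : Sp F) (hA : g.1.toBlocks₁₁.det ≠ 0) :
    ∃ (L U : Matrix (Fin 2) (Fin 2) F) (hL : Lᵀ = L) (hU : Uᵀ = U),
      g = low L hL * lev g.1.toBlocks₁₁ hA * up U hU := by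
  obtain ⟨A, B, C, D, hg⟩ : ∃ A B C D, g.1 = fromBlocks A B C D :=
    ⟨_, _, _, _, (fromBlocks_toBlocks g.1).symm⟩
  obtain ⟨r1, r2, r3⟩ := SymplecticGroup.fromBlocks_mem_iff.1 (hg ▸ g.2)
  simp only [hg, toBlocks_fromBlocks₁₁] at hA ⊢
  have hAu : IsUnit A.det := isUnit_iff_ne_zero.2 hA
  have hL : (C * A⁻¹)ᵀ = C * A⁻¹ := by
    calc (C * A⁻¹)ᵀ = A⁻¹ᵀ * (Cᵀ * A) * A⁻¹ := by
          rw [transpose_mul, Matrix.mul_assoc, Matrix.mul_assoc Cᵀ, Matrix.mul_nonsing_inv _ hAu,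
            Matrix.mul_one]
      _ = C * A⁻¹ := by
          rw [← r1, ← Matrix.mul_assoc, ← transpose_mul, Matrix.mul_nonsing_inv _ hAu,
            transpose_one, Matrix.one_mul]
  have hD : D = C * A⁻¹ * B + A⁻¹ᵀ := by
    have h2 : Aᵀ * D = 1 + Cᵀ * B := by rw [← r3, sub_add_cancel]
    calc D = A⁻¹ᵀ * (Aᵀ * D) := by
          rw [← Matrix.mul_assoc, ← transpose_mul, Matrix.mul_nonsing_inv _ hAu, transpose_one,
            Matrix.one_mul]
      _ = C * A⁻¹ * B + A⁻¹ᵀ := by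
          rw [h2, Matrix.mul_add, Matrix.mul_one, ← Matrix.mul_assoc, ← transpose_mul, hL, add_comm]
  have hU : (A⁻¹ * B)ᵀ = A⁻¹ * B := by
    have e := r2
    rw [hD, Matrix.mul_add, transpose_add, Matrix.add_mul, transpose_mul, hL,
      transpose_transpose,
      show Bᵀ * (C * A⁻¹) * B = Bᵀ * (C * A⁻¹ * B) by rw [Matrix.mul_assoc]] at e
    rw [transpose_mul]
    exact add_left_cancel e
  refine ⟨C * A⁻¹, A⁻¹ * B, hL, hU, Subtype.ext ?_⟩
  show g.1 = fromBlocks 1 0 (C * A⁻¹) 1 * fromBlocks A 0 0 A⁻¹ᵀ * fromBlocks 1 (A⁻¹ * B) 0 1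
  rw [hg, fromBlocks_multiply, fromBlocks_multiply]
  simp only [Matrix.mul_one, Matrix.one_mul, Matrix.mul_zero, Matrix.zero_mul, add_zero, zero_add]
  congr 1
  · rw [← Matrix.mul_assoc, Matrix.mul_nonsing_inv _ hAu, Matrix.one_mul]
  · rw [Matrix.mul_assoc, Matrix.nonsing_inv_mul _ hAu, Matrix.mul_one]
  · rw [hD]
    congr 1
    rw [Matrix.mul_assoc (C * A⁻¹), ← Matrix.mul_assoc A, Matrix.mul_nonsing_inv _ hAu,
      Matrix.one_mul]

/-- Conjugation by `up T`: the new upper left block. -/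
theorem up_conj_block (g : Sp F) (T : Matrix (Fin 2) (Fin 2) F) (hT : Tᵀ = T) :
    (up T hT * g * (up T hT)⁻¹).1.toBlocks₁₁ = g.1.toBlocks₁₁ + T * g.1.toBlocks₂₁ := by
  obtain ⟨A, B, C, D, hg⟩ : ∃ A B C D, g.1 = fromBlocks A B C D :=
    ⟨_, _, _, _, (fromBlocks_toBlocks g.1).symm⟩
  rw [up_inv]
  show (fromBlocks 1 T 0 1 * g.1 * fromBlocks 1 (-T) 0 1).toBlocks₁₁ = _
  rw [hg, fromBlocks_multiply, fromBlocks_multiply]
  simp

/-- An element all of whose conjugates have zero lower left block is central. -/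
theorem exists_conj_block_ne_zero (g : Sp F) (hg : g ∉ Subgroup.center (Sp F)) :
    ∃ k : Sp F, (k * g * k⁻¹).1.toBlocks₂₁ ≠ 0 := by
  by_contra hall
  push Not at hall
  obtain ⟨A, B, C, D, hgeq⟩ : ∃ A B C D, g.1 = fromBlocks A B C D :=
    ⟨_, _, _, _, (fromBlocks_toBlocks g.1).symm⟩
  have hC : C = 0 := by
    have := hall 1
    rw [one_mul, inv_one, mul_one, hgeq, toBlocks_fromBlocks₂₁] at this
    exact this
  subst hC
  have hB : B = 0 := by
    have h := hall (jay F)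
    change ((Matrix.J (Fin 2) F * g.1 * (↑(jay F)⁻¹ : Matrix _ _ F))).toBlocks₂₁ = 0 at h
    rw [SymplecticGroup.coe_inv, show ((jay F : Sp F) : Matrix _ _ F) = Matrix.J (Fin 2) F from rfl,
      hgeq, Matrix.J, fromBlocks_transpose, fromBlocks_neg, fromBlocks_multiply,
      fromBlocks_multiply, fromBlocks_multiply, fromBlocks_multiply] at h
    simpa using h
  subst hB
  have hT : ∀ T : Matrix (Fin 2) (Fin 2) F, Tᵀ = T → T * A = D * T := fun T hT => by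
    have h := hall (low T hT)
    rw [low_inv] at h
    change (fromBlocks 1 0 T 1 * g.1 * fromBlocks 1 0 (-T) 1).toBlocks₂₁ = 0 at h
    rw [hgeq, fromBlocks_multiply, fromBlocks_multiply] at h
    simpa [← sub_eq_add_neg, sub_eq_zero] using h
  have hAD : A = D := by simpa using hT 1 (by simp)
  subst hAD
  have h1 := hT !![1, 0; 0, 0] (by ext i j; fin_cases i <;> fin_cases j <;> rfl)
  have h2 := hT !![0, 1; 1, 0] (by ext i j; fin_cases i <;> fin_cases j <;> rfl)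
  have e01 := congrFun (congrFun h1 0) 1
  have e10 := congrFun (congrFun h1 1) 0
  have e00 := congrFun (congrFun h2 0) 1
  simp [Matrix.mul_apply, Fin.sum_univ_two] at e01 e10 e00
  have hA : A = A 0 0 • (1 : Matrix (Fin 2) (Fin 2) F) := by
    ext i j
    fin_cases i <;> fin_cases j <;> simp [e01, ← e10, e00]
  apply hg
  rw [Subgroup.mem_center_iff]
  intro h
  apply Subtype.ext
  show h.1 * g.1 = g.1 * h.1
  have : g.1 = A 0 0 • (1 : Matrix (Fin 2 ⊕ Fin 2) (Fin 2 ⊕ Fin 2) F) := by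
    rw [hgeq]
    conv_lhs => rw [hA]
    rw [← fromBlocks_one, fromBlocks_smul]
    simp
  rw [this]
  simp

end CfsgLib.KnownB.PSpFourSquare
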