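import Cfsg.Agent.Lib.KnownB.PSpFourSquare.Blocks

/-!
# The class of `x = diag(A, A⁻ᵀ)` and the block criterion

`A` is the companion matrix of `X² - τX + δ`, chosen so that `S ↦ A S Aᵀ` fixes no nonzero symmetric
matrix; then `x` absorbs both Siegel radicals inside its class, so that `g` is a product of two
conjugates of `x` as soon as its upper left block is a product of two conjugates of `A^{±1}`.
-/

set_option autoImplicit false

namespace CfsgLib.KnownB.PSpFourSquare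

open Matrix

variable {F : Type*} [Field F]

/-- `g` is a product of two conjugates of `x`. -/
def Cover {G : Type*} [Group G] (x g : G) : Prop :=
  ∃ u v : G, g = (u * x * u⁻¹) * (v * x * v⁻¹)

theorem cover_of_conj {G : Type*} [Group G] {x g : G} (k : G) (h : Cover x (k * g * k⁻¹)) :
    Cover x g := by
  obtain ⟨u, v, huv⟩ := h
  refine ⟨k⁻¹ * u, k⁻¹ * v, ?_⟩
  calc g = k⁻¹ * (k * g * k⁻¹) * k := by group
    _ = _ := by rw [huv]; group

/-- The companion matrix of `X² - τ X + δ`. -/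
def comp (δ τ : F) : Matrix (Fin 2) (Fin 2) F := !![0, -δ; 1, τ]

theorem det_comp (δ τ : F) : (comp δ τ).det = δ := by simp [comp, det_fin_two]

theorem trace_comp (δ τ : F) : (comp δ τ).trace = τ := by simp [comp, trace_fin_two]

/-- A non-scalar matrix is conjugate to its companion matrix. -/
theorem exists_comp_conj (Y : Matrix (Fin 2) (Fin 2) F) (hY : ∀ c : F, Y ≠ c • 1) :
    ∃ P : Matrix (Fin 2) (Fin 2) F, P.det ≠ 0 ∧ Y * P = P * comp Y.det Y.trace := by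
  have key : ∀ x y : F, x * (Y 1 0 * x + Y 1 1 * y) - y * (Y 0 0 * x + Y 0 1 * y) ≠ 0 →
      ∃ P : Matrix (Fin 2) (Fin 2) F, P.det ≠ 0 ∧ Y * P = P * comp Y.det Y.trace := by
    intro x y h
    refine ⟨!![x, Y 0 0 * x + Y 0 1 * y; y, Y 1 0 * x + Y 1 1 * y], by
      rw [det_fin_two_of]; intro e; exact h (by linear_combination e), ?_⟩
    rw [det_fin_two, trace_fin_two]
    ext i j
    fin_cases i <;> fin_cases j <;>
      simp [comp, Matrix.mul_apply, Fin.sum_univ_two] <;> ring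
  by_cases hc : Y 1 0 = 0
  · by_cases hb : Y 0 1 = 0
    · refine key 1 1 fun e => hY (Y 0 0) ?_
      have hd : Y 1 1 = Y 0 0 := by linear_combination e - hc + hb
      ext i j
      fin_cases i <;> fin_cases j <;> simp [Matrix.smul_apply] <;> assumption
    · exact key 0 1 fun e => hb (by linear_combination -e)
  · exact key 1 0 fun e => hc (by linear_combination e)

/-- No nonzero symmetric matrix is fixed by `S ↦ Y S Yᵀ`. -/
def Free (Y : Matrix (Fin 2) (Fin 2) F) : Prop :=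
  ∀ S : Matrix (Fin 2) (Fin 2) F, Sᵀ = S → Y * S * Yᵀ = S → S = 0

theorem Free.conj {Y P A : Matrix (Fin 2) (Fin 2) F} (hA : Free A) (hP : P.det ≠ 0)
    (h : Y * P = P * A) : Free Y := by
  intro S hS hfix
  have hPu : IsUnit P.det := isUnit_iff_ne_zero.2 hP
  have hAY : A * P⁻¹ = P⁻¹ * Y := by
    calc A * P⁻¹ = P⁻¹ * (P * A) * P⁻¹ := by rw [← Matrix.mul_assoc, Matrix.nonsing_inv_mul _ hPu,
          Matrix.one_mul]
      _ = P⁻¹ * Y := by rw [← h, Matrix.mul_assoc, Matrix.mul_assoc Y, Matrix.mul_nonsing_inv _ hPu,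
          Matrix.mul_one]
  have h0 := hA (P⁻¹ * S * P⁻¹ᵀ) (by simp [transpose_mul, hS, Matrix.mul_assoc]) (by
    calc A * (P⁻¹ * S * P⁻¹ᵀ) * Aᵀ = A * P⁻¹ * S * (A * P⁻¹)ᵀ := by
          simp [transpose_mul, Matrix.mul_assoc]
      _ = P⁻¹ * (Y * S * Yᵀ) * P⁻¹ᵀ := by rw [hAY]; simp [transpose_mul, Matrix.mul_assoc]
      _ = P⁻¹ * S * P⁻¹ᵀ := by rw [hfix])
  calc S = P * (P⁻¹ * S * P⁻¹ᵀ) * Pᵀ := by
        rw [show P * (P⁻¹ * S * P⁻¹ᵀ) * Pᵀ = (P * P⁻¹) * S * (P⁻¹ᵀ * Pᵀ) by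
          simp [Matrix.mul_assoc], ← transpose_mul, Matrix.mul_nonsing_inv _ hPu, transpose_one,
          Matrix.one_mul, Matrix.mul_one]
    _ = 0 := by rw [h0]; simp

theorem Free.inv {Y : Matrix (Fin 2) (Fin 2) F} (hY : Free Y⁻¹) (h0 : Y.det ≠ 0) : Free Y := by
  intro S hS hfix
  have hu : IsUnit Y.det := isUnit_iff_ne_zero.2 h0
  refine hY S hS ?_
  conv_lhs => rw [← hfix]
  rw [show Y⁻¹ * (Y * S * Yᵀ) * Y⁻¹ᵀ = (Y⁻¹ * Y) * S * (Yᵀ * Y⁻¹ᵀ) by simp [Matrix.mul_assoc],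
    ← transpose_mul, Matrix.nonsing_inv_mul _ hu, transpose_one, Matrix.one_mul, Matrix.mul_one]

theorem Free.exists_sub_eq [Finite F] {Y : Matrix (Fin 2) (Fin 2) F} (hY : Free Y)
    (S : Matrix (Fin 2) (Fin 2) F) (hS : Sᵀ = S) :
    ∃ T : Matrix (Fin 2) (Fin 2) F, Tᵀ = T ∧ Y * T * Yᵀ - T = S := by
  let f : {T : Matrix (Fin 2) (Fin 2) F // Tᵀ = T} → {T : Matrix (Fin 2) (Fin 2) F // Tᵀ = T} :=
    fun T => ⟨Y * T.1 * Yᵀ - T.1, by
      rw [transpose_sub, transpose_mul, transpose_mul, transpose_transpose, T.2, Matrix.mul_assoc]⟩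
  have hinj : Function.Injective f := fun T T' e => by
    have e' : Y * T.1 * Yᵀ - T.1 = Y * T'.1 * Yᵀ - T'.1 := congrArg Subtype.val e
    refine Subtype.ext (sub_eq_zero.1 (hY _ (by rw [transpose_sub, T.2, T'.2]) ?_))
    rw [Matrix.mul_sub, Matrix.sub_mul]
    rw [sub_eq_sub_iff_sub_eq_sub] at e'
    exact e'
  obtain ⟨T, hT⟩ := Finite.surjective_of_injective hinj ⟨S, hS⟩
  exact ⟨T.1, T.2, congrArg Subtype.val hT⟩

/-- Admissible parameters. -/
structure Params (F : Type*) [Field F] where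
  δ : F
  τ : F
  hδ : δ ≠ 0
  hsq : τ ^ 2 ≠ 4 * δ
  free : Free (comp δ τ)

variable (K : Params F)

theorem Params.det_ne : (comp K.δ K.τ).det ≠ 0 := by rw [det_comp]; exact K.hδ

/-- The element `x`. -/
noncomputable def Params.x : Sp F := lev (comp K.δ K.τ) K.det_ne

/-- Same determinant and trace as `A`. -/
def Params.Like (Y : Matrix (Fin 2) (Fin 2) F) : Prop := Y.det = K.δ ∧ Y.trace = K.τ

/-- Conjugate to `A` or to `A⁻¹`. -/
def Params.InC (Y : Matrix (Fin 2) (Fin 2) F) : Prop :=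
  Y.det ≠ 0 ∧ (K.Like Y ∨ K.Like Y⁻¹)

variable {K}

theorem Params.Like.exists_conj {Y : Matrix (Fin 2) (Fin 2) F} (h : K.Like Y) :
    ∃ P : Matrix (Fin 2) (Fin 2) F, P.det ≠ 0 ∧ Y * P = P * comp K.δ K.τ := by
  have := exists_comp_conj Y fun c e => K.hsq (by
    rw [← h.1, ← h.2, e, det_fin_two, trace_fin_two]
    simp
    ring)
  rwa [h.1, h.2] at this

theorem Params.Like.det_ne {Y : Matrix (Fin 2) (Fin 2) F} (h : K.Like Y) : Y.det ≠ 0 := by
  rw [h.1]; exact K.hδ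

theorem Params.Like.transpose {Y : Matrix (Fin 2) (Fin 2) F} (h : K.Like Y) : K.Like Yᵀ :=
  ⟨by rw [det_transpose, h.1], by rw [trace_transpose, h.2]⟩

theorem Params.Like.conj {Y : Matrix (Fin 2) (Fin 2) F} (h : K.Like Y)
    (P : Matrix (Fin 2) (Fin 2) F) (hP : P.det ≠ 0) : K.Like (P * Y * P⁻¹) := by
  have hPu : IsUnit P.det := isUnit_iff_ne_zero.2 hP
  refine ⟨by rw [det_conj ((isUnit_iff_isUnit_det P).2 hPu), h.1], ?_⟩
  rw [Matrix.trace_mul_cycle, Matrix.nonsing_inv_mul _ hPu, Matrix.one_mul, h.2]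

theorem Params.InC.transpose {Y : Matrix (Fin 2) (Fin 2) F} (h : K.InC Y) : K.InC Yᵀ := by
  refine ⟨by rw [det_transpose]; exact h.1, h.2.imp Params.Like.transpose fun h' => ?_⟩
  rw [← transpose_nonsing_inv]
  exact h'.transpose

theorem Params.InC.conj {Y : Matrix (Fin 2) (Fin 2) F} (h : K.InC Y)
    (P : Matrix (Fin 2) (Fin 2) F) (hP : P.det ≠ 0) : K.InC (P * Y * P⁻¹) := by
  have hPu : IsUnit P.det := isUnit_iff_ne_zero.2 hP
  refine ⟨by rw [det_conj ((isUnit_iff_isUnit_det P).2 hPu)]; exact h.1,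
    h.2.imp (fun h' => h'.conj P hP) fun h' => ?_⟩
  rw [Matrix.mul_inv_rev, Matrix.mul_inv_rev, Matrix.nonsing_inv_nonsing_inv _ hPu,
    ← Matrix.mul_assoc]
  exact h'.conj P hP

theorem Params.InC.free {Y : Matrix (Fin 2) (Fin 2) F} (h : K.InC Y) : Free Y := by
  rcases h.2 with h' | h'
  · obtain ⟨P, hP, e⟩ := h'.exists_conj
    exact K.free.conj hP e
  · obtain ⟨P, hP, e⟩ := h'.exists_conj
    exact (K.free.conj hP e).inv h.1

theorem Params.InC.exists_class {Y : Matrix (Fin 2) (Fin 2) F} (h : K.InC Y) :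
    ∃ u : Sp F, lev Y h.1 = u * K.x * u⁻¹ := by
  rcases h.2 with h' | h'
  · obtain ⟨P, hP, e⟩ := h'.exists_conj
    exact ⟨lev P hP, lev_conj hP _ K.det_ne e⟩
  · obtain ⟨P, hP, e⟩ := h'.transpose.exists_conj
    refine ⟨jay F * lev P hP, ?_⟩
    have hY : (Y⁻¹ᵀ)⁻¹ᵀ = Y := by
      rw [transpose_nonsing_inv, transpose_transpose,
        Matrix.nonsing_inv_nonsing_inv _ (isUnit_iff_ne_zero.2 h.1)]
    have hd : ((Y⁻¹ᵀ)⁻¹ᵀ).det ≠ 0 := by rw [hY]; exact h.1
    rw [lev_congr hY.symm h.1, ← jay_lev _ h'.transpose.det_ne hd,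
      lev_conj hP h'.transpose.det_ne K.det_ne e, Params.x]
    group

/-- Right multiplication by the upper radical stays in the class. -/
theorem Params.InC.class_up [Finite F] {Y : Matrix (Fin 2) (Fin 2) F} (h : K.InC Y)
    (S : Matrix (Fin 2) (Fin 2) F) (hS : Sᵀ = S) :
    ∃ v : Sp F, lev Y h.1 * up S hS = v * K.x * v⁻¹ := by
  obtain ⟨u, hu⟩ := h.exists_class
  obtain ⟨T, hT, hTS⟩ := h.free.exists_sub_eq (-(Y * S * Yᵀ))
    (by simp [transpose_mul, hS, Matrix.mul_assoc])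
  refine ⟨up T hT * u, ?_⟩
  have key : lev Y h.1 * up S hS = up T hT * lev Y h.1 * (up T hT)⁻¹ := by
    rw [eq_mul_inv_iff_mul_eq, mul_assoc, up_mul, lev_up]
    refine congrArg (· * lev Y h.1) (up_congr ?_ _)
    rw [sub_eq_iff_eq_add] at hTS
    rw [Matrix.mul_add, Matrix.add_mul, hTS]
    abel
  rw [key, hu]
  group

/-- Left multiplication by the lower radical stays in the class. -/
theorem Params.InC.class_low [Finite F] {Y : Matrix (Fin 2) (Fin 2) F} (h : K.InC Y)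
    (S : Matrix (Fin 2) (Fin 2) F) (hS : Sᵀ = S) :
    ∃ v : Sp F, low S hS * lev Y h.1 = v * K.x * v⁻¹ := by
  obtain ⟨u, hu⟩ := h.exists_class
  obtain ⟨T, hT, hTS⟩ := h.transpose.free.exists_sub_eq (Yᵀ * S * Y)
    (by simp [transpose_mul, hS, Matrix.mul_assoc])
  refine ⟨low T hT * u, ?_⟩
  have key : low S hS * lev Y h.1 = low T hT * lev Y h.1 * (low T hT)⁻¹ := by
    rw [eq_mul_inv_iff_mul_eq, low_lev, low_lev h.1 T, mul_assoc, low_mul]
    refine congrArg (lev Y h.1 * ·) (low_congr ?_ _)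
    rw [transpose_transpose, sub_eq_iff_eq_add] at hTS
    rw [hTS]
  rw [key, hu]
  group

variable (K)

/-- `X` is a product of two conjugates of `A^{±1}`. -/
def Params.Good (X : Matrix (Fin 2) (Fin 2) F) : Prop :=
  ∃ Y Z : Matrix (Fin 2) (Fin 2) F, K.InC Y ∧ K.InC Z ∧ X = Y * Z

/-- The block criterion. -/
theorem Params.cover_of_block [Finite F] (g : Sp F) (hg : K.Good g.1.toBlocks₁₁) :
    Cover K.x g := by
  obtain ⟨Y, Z, hY, hZ, hXYZ⟩ := hg
  have hd : g.1.toBlocks₁₁.det ≠ 0 := by rw [hXYZ, det_mul]; exact mul_ne_zero hY.1 hZ.1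
  obtain ⟨L, U, hL, hU, hdec⟩ := exists_dec g hd
  obtain ⟨u, hu⟩ := hY.class_low L hL
  obtain ⟨v, hv⟩ := hZ.class_up U hU
  refine ⟨u, v, ?_⟩
  rw [← hu, ← hv, hdec, lev_congr hXYZ hd, ← lev_mul Y Z hY.1 hZ.1]
  group

end CfsgLib.KnownB.PSpFourSquare
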